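import Groth.Agent.L16.Rees.SmulMod
import Groth.Agent.L16.Rees.Main
import Mathlib.CategoryTheory.Abelian.Refinements

/-!
# Truncations modulo the powers of a scalar, up to bounded torsion
-/

set_option autoImplicit false
set_option linter.style.haveILetI false
set_option linter.unusedSectionVars false

universe u

open CategoryTheory CategoryTheory.Limits AlgebraicGeometry

noncomputable section

namespace Groth.L20.FreeTrunc

variable {A : Type u} [CommRing A] {X : Scheme.{u}} [X.Over (Spec (CommRingCat.of A))] (ϖ : A)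

/-- Multiplication by a power of the scalar. -/
abbrev σ (M : X.Modules) (i : ℕ) : M ⟶ M := Formal.smulMod A M (ϖ ^ i)

variable {ϖ}

theorem σ_nat {M N : X.Modules} (φ : M ⟶ N) (i : ℕ) : σ ϖ M i ≫ φ = φ ≫ σ ϖ N i :=
  Groth.L16.Rees.smulMod_naturality A φ _

theorem σ_add (M : X.Modules) (i j : ℕ) : σ ϖ M i ≫ σ ϖ M j = σ ϖ M (i + j) := by
  show _ = Formal.smulMod A M (ϖ ^ (i + j))
  rw [pow_add, mul_comm, Groth.L16.Rees.smulMod_mul]

theorem σ_zero (M : X.Modules) : σ ϖ M 0 = 𝟙 M := by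
  show Formal.smulMod A M (ϖ ^ 0) = _
  rw [pow_zero, Groth.L16.Rees.smulMod_one]

variable (ϖ)

/-- The truncation `M / ϖ ^ i M`. -/
def C (i : ℕ) (M : X.Modules) : X.Modules := cokernel (σ ϖ M i)

/-- The projection to the truncation. -/
def q (i : ℕ) (M : X.Modules) : M ⟶ C ϖ i M := cokernel.π _

instance (i : ℕ) (M : X.Modules) : Epi (q ϖ i M) := inferInstanceAs (Epi (cokernel.π _))

/-- The image of `ϖ ^ c`. -/
def Fim (c : ℕ) (M : X.Modules) : X.Modules := Abelian.image (σ ϖ M c)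

/-- The projection to the image. -/
def p (c : ℕ) (M : X.Modules) : M ⟶ Fim ϖ c M := Abelian.factorThruImage _

/-- The inclusion of the image. -/
def j (c : ℕ) (M : X.Modules) : Fim ϖ c M ⟶ M := Abelian.image.ι _

instance (c : ℕ) (M : X.Modules) : Epi (p ϖ c M) := inferInstanceAs (Epi (Abelian.factorThruImage _))
instance (c : ℕ) (M : X.Modules) : Mono (j ϖ c M) := inferInstanceAs (Mono (Abelian.image.ι _))

@[reassoc]
theorem p_j (c : ℕ) (M : X.Modules) : p ϖ c M ≫ j ϖ c M = σ ϖ M c := Abelian.image.fac _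

theorem j_p (c : ℕ) (M : X.Modules) : j ϖ c M ≫ p ϖ c M = σ ϖ (Fim ϖ c M) c := by
  rw [← cancel_epi (p ϖ c M), ← cancel_mono (j ϖ c M)]
  simp only [Category.assoc]
  rw [p_j, σ_nat, p_j_assoc]

@[reassoc]
theorem σ_q (i : ℕ) (M : X.Modules) : σ ϖ M i ≫ q ϖ i M = 0 := cokernel.condition _

theorem σ_q_of_le {i k : ℕ} (h : i ≤ k) (M : X.Modules) : σ ϖ M k ≫ q ϖ i M = 0 := by
  rw [show k = (k - i) + i by omega, ← σ_add, Category.assoc, σ_q, comp_zero]

/-- The transition maps. -/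
def tr {i k : ℕ} (h : i ≤ k) (M : X.Modules) : C ϖ k M ⟶ C ϖ i M :=
  cokernel.desc _ (q ϖ i M) (σ_q_of_le ϖ h M)

@[reassoc]
theorem q_tr {i k : ℕ} (h : i ≤ k) (M : X.Modules) : q ϖ k M ≫ tr ϖ h M = q ϖ i M := cokernel.π_desc _ _ _

/-- An isomorphism of truncations gives one of every smaller truncation. -/
theorem exists_reduce {i k : ℕ} (h : i ≤ k) {M N : X.Modules} (φ : C ϖ k M ≅ C ϖ k N) :
    ∃ φ' : C ϖ i M ≅ C ϖ i N, tr ϖ h M ≫ φ'.hom = φ.hom ≫ tr ϖ h N := by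
  have key : ∀ {M N : X.Modules} (φ : C ϖ k M ⟶ C ϖ k N), σ ϖ M i ≫ q ϖ k M ≫ φ ≫ tr ϖ h N = 0 := fun {M N} φ => by
    haveI : Epi (q ϖ k N) := inferInstance
    have h1 : σ ϖ (C ϖ k N) i ≫ tr ϖ h N = 0 := by
      rw [← cancel_epi (q ϖ k N), comp_zero, ← Category.assoc, ← σ_nat, Category.assoc, q_tr, σ_q]
    rw [← Category.assoc, σ_nat, Category.assoc, ← Category.assoc (σ ϖ (C ϖ k M) i), σ_nat, Category.assoc, h1,
      comp_zero, comp_zero]
  let a : C ϖ i M ⟶ C ϖ i N := cokernel.desc _ (q ϖ k M ≫ φ.hom ≫ tr ϖ h N) (key φ.hom)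
  let b : C ϖ i N ⟶ C ϖ i M := cokernel.desc _ (q ϖ k N ≫ φ.inv ≫ tr ϖ h M) (key φ.inv)
  have ha : tr ϖ h M ≫ a = φ.hom ≫ tr ϖ h N := by
    rw [← cancel_epi (q ϖ k M), q_tr_assoc]
    exact cokernel.π_desc _ _ _
  have hb : tr ϖ h N ≫ b = φ.inv ≫ tr ϖ h M := by
    rw [← cancel_epi (q ϖ k N), q_tr_assoc]
    exact cokernel.π_desc _ _ _
  haveI : ∀ M : X.Modules, Epi (tr ϖ h M) := fun M => by
    haveI : Epi (q ϖ k M ≫ tr ϖ h M) := by rw [q_tr]; infer_instance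
    exact epi_of_epi (q ϖ k M) _
  refine ⟨⟨a, b, ?_, ?_⟩, ha⟩
  · rw [← cancel_epi (tr ϖ h M), reassoc_of% ha, hb, φ.hom_inv_id_assoc, Category.comp_id]
  · rw [← cancel_epi (tr ϖ h N), reassoc_of% hb, ha, φ.inv_hom_id_assoc, Category.comp_id]

/-- The torsion is killed by `ϖ ^ c`. -/
def Stab (c : ℕ) (M : X.Modules) : Prop :=
  ∀ ⦃T : X.Modules⦄ (g : T ⟶ M), g ≫ σ ϖ M (c + 1) = 0 → g ≫ σ ϖ M c = 0

variable {ϖ} {c : ℕ} {M : X.Modules}

theorem Stab.kill (hM : Stab ϖ c M) {T : X.Modules} (g : T ⟶ M) (i : ℕ) (h : g ≫ σ ϖ M (c + i) = 0) :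
    g ≫ σ ϖ M c = 0 := by
  induction i generalizing g with
  | zero => exact h
  | succ i ih =>
    refine ih g ?_
    have h' := hM (g ≫ σ ϖ M i) (by rw [Category.assoc, σ_add, show i + (c + 1) = c + (i + 1) by omega]; exact h)
    rwa [Category.assoc, σ_add, show i + c = c + i by omega] at h'

theorem mono_σ_Fim (hM : Stab ϖ c M) (i : ℕ) : Mono (σ ϖ (Fim ϖ c M) i) := by
  refine Preadditive.mono_of_cancel_zero _ fun {T} g hg => ?_
  obtain ⟨T', π, hπ, g', hg'⟩ := surjective_up_to_refinements_of_epi (p ϖ c M) g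
  rw [← cancel_epi π, comp_zero, hg', ← cancel_mono (j ϖ c M), zero_comp, Category.assoc, p_j]
  refine hM.kill g' i ?_
  have h : (π ≫ g ≫ σ ϖ (Fim ϖ c M) i) ≫ j ϖ c M = 0 := by rw [hg, comp_zero, zero_comp]
  rw [← Category.assoc, hg', Category.assoc, Category.assoc, σ_nat, p_j_assoc, σ_add] at h
  exact h

/-- `0 ⟶ ϖᶜM ⟶ ϖᶜM ⟶ ϖᶜM / ϖⁱ ⟶ 0`. -/
def seq (ϖ : A) (c i : ℕ) (M : X.Modules) : ShortComplex X.Modules :=
  ShortComplex.mk (σ ϖ (Fim ϖ c M) i) (q ϖ i (Fim ϖ c M)) (σ_q ϖ i _)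

theorem seq_shortExact (hM : Stab ϖ c M) (i : ℕ) : (seq ϖ c i M).ShortExact where
  exact := ShortComplex.exact_of_g_is_cokernel _ (cokernelIsCokernel _)
  mono_f := mono_σ_Fim hM i
  epi_g := inferInstanceAs (Epi (q ϖ i _))

/-- The map of truncations induced by `p`. -/
def v (ϖ : A) (c i k : ℕ) (h : i ≤ k + c) (M : X.Modules) : C ϖ (k + c) M ⟶ C ϖ i (Fim ϖ c M) :=
  cokernel.desc _ (p ϖ c M ≫ q ϖ i (Fim ϖ c M)) (by
    rw [← Category.assoc, σ_nat, Category.assoc, σ_q_of_le ϖ h, comp_zero])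

@[reassoc]
theorem q_v (c i k : ℕ) (h : i ≤ k + c) (M : X.Modules) :
    q ϖ (k + c) M ≫ v ϖ c i k h M = p ϖ c M ≫ q ϖ i (Fim ϖ c M) := cokernel.π_desc _ _ _

instance (c i k : ℕ) (h : i ≤ k + c) (M : X.Modules) : Epi (v ϖ c i k h M) := by
  haveI : Epi (q ϖ (k + c) M ≫ v ϖ c i k h M) := by rw [q_v]; infer_instance
  exact epi_of_epi (q ϖ (k + c) M) _

/-- Truncations of the image as images in truncations. -/
def w (ϖ : A) (c i : ℕ) (M : X.Modules) : C ϖ i (Fim ϖ c M) ⟶ C ϖ (i + c) M :=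
  cokernel.desc _ (j ϖ c M ≫ q ϖ (i + c) M) (by
    rw [← cancel_epi (p ϖ c M), comp_zero, ← Category.assoc, ← σ_nat, Category.assoc, p_j_assoc,
      ← Category.assoc, σ_add, σ_q])

theorem v_w (c i : ℕ) (M : X.Modules) :
    v ϖ c i i (Nat.le_add_right i c) M ≫ w ϖ c i M = σ ϖ (C ϖ (i + c) M) c := by
  rw [← cancel_epi (q ϖ (i + c) M), q_v_assoc]
  show p ϖ c M ≫ cokernel.π _ ≫ cokernel.desc _ _ _ = _
  rw [cokernel.π_desc, p_j_assoc, σ_nat]

theorem mono_w (c i : ℕ) (M : X.Modules) : Mono (w ϖ c i M) := by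
  refine Preadditive.mono_of_cancel_zero _ fun {T} g hg => ?_
  obtain ⟨T₁, π₁, h₁, g₁, hg₁⟩ :=
    surjective_up_to_refinements_of_epi (p ϖ c M ≫ q ϖ i (Fim ϖ c M)) g
  have h : g₁ ≫ σ ϖ M c ≫ q ϖ (i + c) M = 0 := by
    have h' : π₁ ≫ g ≫ w ϖ c i M = 0 := by rw [hg, comp_zero]
    rw [reassoc_of% hg₁] at h'
    have e : q ϖ i (Fim ϖ c M) ≫ w ϖ c i M = j ϖ c M ≫ q ϖ (i + c) M := cokernel.π_desc _ _ _
    rw [e, p_j_assoc] at h'
    exact h'
  rw [← Category.assoc] at h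
  obtain ⟨T₂, π₂, h₂, t, ht⟩ :=
    (CokernelCofork.IsColimit.comp_π_eq_zero_iff_up_to_refinements (cokernelIsCokernel (σ ϖ M (i + c))) (g₁ ≫ σ ϖ M c)).1 h
  have h2 : π₂ ≫ g₁ ≫ p ϖ c M = t ≫ p ϖ c M ≫ σ ϖ (Fim ϖ c M) i := by
    rw [← cancel_mono (j ϖ c M)]
    simp only [Category.assoc]
    rw [σ_nat, p_j_assoc, p_j, σ_add, show c + i = i + c by omega]
    exact ht
  rw [← cancel_epi π₁, comp_zero, hg₁, ← cancel_epi π₂, comp_zero, reassoc_of% h2, σ_q, comp_zero, comp_zero]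

/-- An isomorphism of truncations gives one of the truncated images. -/
theorem exists_chi (c i : ℕ) {M N : X.Modules} (φ : C ϖ (i + c) M ≅ C ϖ (i + c) N) :
    ∃ χ : C ϖ i (Fim ϖ c M) ≅ C ϖ i (Fim ϖ c N),
      v ϖ c i i (Nat.le_add_right i c) M ≫ χ.hom = φ.hom ≫ v ϖ c i i (Nat.le_add_right i c) N := by
  let vv := fun L : X.Modules => v ϖ c i i (Nat.le_add_right i c) L
  have key : ∀ {M N : X.Modules} (φ : C ϖ (i + c) M ⟶ C ϖ (i + c) N), kernel.ι (vv M) ≫ φ ≫ vv N = 0 :=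
    fun {M N} φ => by
      haveI := mono_w (ϖ := ϖ) c i N
      rw [← cancel_mono (w ϖ c i N), zero_comp]
      simp only [Category.assoc, vv]
      rw [v_w, ← σ_nat, ← v_w, Category.assoc, kernel.condition_assoc, zero_comp]
  let a := Abelian.epiDesc (vv M) (φ.hom ≫ vv N) (key φ.hom)
  let b := Abelian.epiDesc (vv N) (φ.inv ≫ vv M) (key φ.inv)
  have ha : vv M ≫ a = φ.hom ≫ vv N := Abelian.comp_epiDesc _ _ _
  have hb : vv N ≫ b = φ.inv ≫ vv M := Abelian.comp_epiDesc _ _ _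
  refine ⟨⟨a, b, ?_, ?_⟩, ha⟩
  · rw [← cancel_epi (vv M), reassoc_of% ha, hb, φ.hom_inv_id_assoc, Category.comp_id]
  · rw [← cancel_epi (vv N), reassoc_of% hb, ha, φ.inv_hom_id_assoc, Category.comp_id]

/-- Morphisms into `M` from compatible morphisms into `ϖᶜM` and a truncation. -/
theorem exists_glue (hM : Stab ϖ c M) (d : ℕ) {T : X.Modules} (a : T ⟶ Fim ϖ c M) (b : T ⟶ C ϖ (d + c) M)
    (hab : a ≫ q ϖ (d + c) (Fim ϖ c M) = b ≫ v ϖ c (d + c) d le_rfl M) :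
    ∃ z : T ⟶ M, z ≫ p ϖ c M = a ∧ z ≫ q ϖ (d + c) M = b := by
  let α := q ϖ (d + c) (Fim ϖ c M)
  let β := v ϖ c (d + c) d le_rfl M
  let l : M ⟶ pullback α β := pullback.lift (p ϖ c M) (q ϖ (d + c) M) (q_v c (d + c) d le_rfl M).symm
  haveI : Mono l := Preadditive.mono_of_cancel_zero _ fun {T'} g hg => by
    have h1 : g ≫ p ϖ c M = 0 := by
      have := congrArg (· ≫ pullback.fst α β) hg
      simpa only [Category.assoc, l, pullback.lift_fst, zero_comp] using this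
    have h2 : g ≫ q ϖ (d + c) M = 0 := by
      have := congrArg (· ≫ pullback.snd α β) hg
      simpa only [Category.assoc, l, pullback.lift_snd, zero_comp] using this
    obtain ⟨T₂, π₂, h₂, g', hg'⟩ :=
      (CokernelCofork.IsColimit.comp_π_eq_zero_iff_up_to_refinements (cokernelIsCokernel (σ ϖ M (d + c))) g).1 h2
    have h3 : (g' ≫ σ ϖ M (d + c)) ≫ σ ϖ M c = 0 := by
      rw [← hg', Category.assoc, ← p_j, reassoc_of% h1, zero_comp, comp_zero]
    rw [Category.assoc, σ_add, show d + c + c = c + (d + c) by omega] at h3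
    have h4 := hM.kill g' (d + c) h3
    rw [← cancel_epi π₂, comp_zero, hg', show d + c = c + d by omega, ← σ_add, reassoc_of% h4, zero_comp]
  haveI : Epi l := by
    rw [epi_iff_surjective_up_to_refinements]
    intro T' x
    obtain ⟨T₁, π₁, h₁, t, ht⟩ := surjective_up_to_refinements_of_epi (q ϖ (d + c) M) (x ≫ pullback.snd α β)
    have h2 : (t ≫ p ϖ c M - π₁ ≫ x ≫ pullback.fst α β) ≫ q ϖ (d + c) (Fim ϖ c M) = 0 := by
      simp only [Preadditive.sub_comp, Category.assoc]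
      rw [show pullback.fst α β ≫ q ϖ (d + c) (Fim ϖ c M) = pullback.snd α β ≫ β from pullback.condition,
        ← q_v c (d + c) d le_rfl M, ← Category.assoc t, ← ht]
      simp only [Category.assoc, β, sub_self]
    obtain ⟨T₂, π₂, h₂', f, hf⟩ :=
      (CokernelCofork.IsColimit.comp_π_eq_zero_iff_up_to_refinements (cokernelIsCokernel (σ ϖ (Fim ϖ c M) (d + c))) _).1 h2
    obtain ⟨T₃, π₃, h₃, f', hf'⟩ := surjective_up_to_refinements_of_epi (p ϖ c M) f
    refine ⟨T₃, π₃ ≫ π₂ ≫ π₁, inferInstance, π₃ ≫ π₂ ≫ t - f' ≫ σ ϖ M (d + c), ?_⟩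
    apply pullback.hom_ext
    · simp only [Category.assoc, Preadditive.sub_comp, l, pullback.lift_fst]
      rw [σ_nat, ← reassoc_of% hf', ← hf, Preadditive.comp_sub, Preadditive.comp_sub]
      abel
    · simp only [Category.assoc, Preadditive.sub_comp, l, pullback.lift_snd]
      rw [σ_q, comp_zero, sub_zero, ← ht]
  haveI : IsIso l := isIso_of_mono_of_epi l
  refine ⟨pullback.lift a b hab ≫ inv l, ?_, ?_⟩
  · rw [show p ϖ c M = l ≫ pullback.fst α β from (pullback.lift_fst _ _ _).symm, Category.assoc,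
      IsIso.inv_hom_id_assoc, pullback.lift_fst]
  · rw [show q ϖ (d + c) M = l ≫ pullback.snd α β from (pullback.lift_snd _ _ _).symm, Category.assoc,
      IsIso.inv_hom_id_assoc, pullback.lift_snd]

end Groth.L20.FreeTrunc
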