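import Groth.Agent.L20.FreeTrunc.Cat
import Groth.Agent.L16.CohLinear
import Groth.Agent.L16.ProperFinite
import Groth.Agent.L16.CohKernel
import Groth.Agent.L16.Rees.Consequences
import Groth.Agent.L16.HomSh.FullyFaithful
import Groth.Agent.L16.ProjSpace.Twist
import Mathlib.RingTheory.Length
import Mathlib.RingTheory.OrderOfVanishing.Basic
import Mathlib.RingTheory.DiscreteValuationRing.Basic
import Mathlib.LinearAlgebra.FreeModule.PID

/-!
# Cohomology of the truncations over a discrete valuation ring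
-/

set_option autoImplicit false
set_option linter.style.haveILetI false
set_option linter.unusedSectionVars false
set_option backward.isDefEq.respectTransparency false
set_option backward.isDefEq.respectTransparency.types false

universe u

open CategoryTheory CategoryTheory.Limits AlgebraicGeometry
open scoped TensorProduct
open Groth.L16.CohLinear (hmap hmap_comp hmap_id delta overLin exact_hmap_hmap exact_hmap_delta exact_delta_hmap)

noncomputable section

namespace Groth.L20.FreeTrunc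

variable {R : Type u} [CommRing R] [IsDomain R] [IsDiscreteValuationRing R] {ϖ : R} (hϖ : Irreducible ϖ)
  {X : Scheme.{u}} [X.Over (Spec (CommRingCat.of R))]

/-- The map on cohomology over the base. -/
abbrev hm {M N : X.Modules} (φ : M ⟶ N) (n : ℕ) : Coh.HH X M n →ₗ[R] Coh.HH X N n := overLin R (hmap φ n)

theorem hm_comp {M N L : X.Modules} (φ : M ⟶ N) (ψ : N ⟶ L) (n : ℕ) (x : Coh.HH X M n) :
    hm (R := R) (φ ≫ ψ) n x = hm (R := R) ψ n (hm (R := R) φ n x) := hmap_comp φ ψ n x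

theorem hm_σ (M : X.Modules) (i n : ℕ) (x : Coh.HH X M n) : hm (R := R) (σ ϖ M i) n x = ϖ ^ i • x := rfl

/-- The morphism of a degree zero class. -/
def ofClass (M : X.Modules) (x : Coh.HH X M 0) : Coh.structureModule X ⟶ M :=
  Groth.L16.homOfSection M (Groth.L16.HomSh.h0Equiv M x)

/-- The class of a morphism. -/
def toClass (M : X.Modules) (t : Coh.structureModule X ⟶ M) : Coh.HH X M 0 :=
  (Groth.L16.HomSh.h0Equiv M).symm (t.app ⊤ (1 : Γ(X, ⊤)))

theorem ofClass_toClass (M : X.Modules) (t : Coh.structureModule X ⟶ M) : ofClass M (toClass M t) = t := by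
  refine Scheme.Modules.hom_ext _ _ fun V => ?_
  ext a
  refine (Groth.L16.homOfSection_app M _ V a).trans ?_
  rw [toClass, AddEquiv.apply_symm_apply]
  have h3 : M.presheaf.map (homOfLE (le_top : V ≤ ⊤)).op (t.app ⊤ (1 : Γ(X, ⊤))) = t.app V (1 : Γ(X, V)) :=
    (PresheafOfModules.naturality_apply t.val (homOfLE (le_top : V ≤ ⊤)).op (1 : Γ(X, ⊤))).symm.trans
      (congrArg (t.app V) (map_one (X.presheaf.map (homOfLE (le_top : V ≤ ⊤)).op).hom))
  rw [h3]
  let one' : Γ(Coh.structureModule X, V) := (1 : Γ(X, V))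
  refine (Scheme.Modules.Hom.app_smul t (show Γ(X, V) from a) one').symm.trans (congrArg (t.app V) ?_)
  exact mul_one (show Γ(X, V) from a)

theorem toClass_ofClass (M : X.Modules) (x : Coh.HH X M 0) : toClass M (ofClass M x) = x := by
  rw [toClass, ofClass, AddEquiv.symm_apply_eq]
  refine (Groth.L16.homOfSection_app M _ ⊤ (1 : Γ(X, ⊤))).trans ?_
  rw [one_smul]
  exact Groth.L18.Frame.rs_self M _ _

theorem toClass_comp {M N : X.Modules} (t : Coh.structureModule X ⟶ M) (φ : M ⟶ N) :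
    toClass N (t ≫ φ) = hm (R := R) φ 0 (toClass M t) := by
  rw [toClass, AddEquiv.symm_apply_eq]
  refine Eq.symm ((Groth.L16.HomSh.h0Equiv_map φ (toClass M t)).trans ?_)
  rw [toClass, AddEquiv.apply_symm_apply]
  rfl

theorem toClass_injective (M : X.Modules) : Function.Injective (toClass M) :=
  Function.LeftInverse.injective (ofClass_toClass M)

theorem hm_injective {M N : X.Modules} (φ : M ⟶ N) [Mono φ] : Function.Injective (hm (R := R) φ 0) := fun a b h => by
  rw [← toClass_ofClass M a, ← toClass_ofClass M b]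
  refine congrArg _ ((cancel_mono φ).1 (toClass_injective N ?_))
  rw [toClass_comp (R := R), toClass_comp (R := R), toClass_ofClass, toClass_ofClass, h]

variable [IsProper (X ↘ Spec (CommRingCat.of R))]

theorem finite_HH_Fim (c : ℕ) {M : X.Modules} (hM : Coh.IsCoh M) (n : ℕ) :
    Module.Finite R (Coh.HH X (Fim ϖ c M) n) := by
  haveI : IsLocallyNoetherian X := LocallyOfFiniteType.isLocallyNoetherian (X ↘ Spec (CommRingCat.of R))
  refine Groth.L16.ProperFinite.finite_HH R ?_ n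
  exact (Groth.L16.CohKernel.isCoh_kernel_cokernel hM
    (Groth.L16.CohKernel.isCoh_kernel_cokernel hM hM _).2 _).1

include hϖ in
theorem length_ne_top_of_killed {P : Type*} [AddCommGroup P] [Module R P] [Module.Finite R P] (i : ℕ)
    (h : ∀ x : P, ϖ ^ i • x = 0) : Module.length R P ≠ ⊤ := by
  let I : Ideal R := Ideal.span {ϖ ^ i}
  have hI : Module.IsTorsionBySet R P (I : Set R) := by
    rintro x ⟨a, ha⟩
    obtain ⟨b, rfl⟩ := Ideal.mem_span_singleton'.1 ha
    show (b * ϖ ^ i) • x = 0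
    rw [mul_smul, h, smul_zero]
  letI := hI.module
  haveI : IsScalarTower R (R ⧸ I) P := ⟨fun a b x => by
    obtain ⟨b, rfl⟩ := Ideal.Quotient.mk_surjective b
    show (Ideal.Quotient.mk I (a * b)) • x = a • (Ideal.Quotient.mk I b • x)
    rw [Module.IsTorsionBySet.mk_smul, Module.IsTorsionBySet.mk_smul, mul_smul]⟩
  haveI : Module.Finite (R ⧸ I) P := Module.Finite.of_restrictScalars_finite R _ _
  haveI : IsArtinianRing (R ⧸ I) := by
    have hfl := isFiniteLength_quotient_span_singleton R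
      (mem_nonZeroDivisors_of_ne_zero (pow_ne_zero i hϖ.ne_zero))
    haveI : IsArtinian R (R ⧸ I) := (isFiniteLength_iff_isNoetherian_isArtinian.1 hfl).2
    exact isArtinian_of_tower R inferInstance
  rw [Module.length_eq_of_surjective (R := R ⧸ I) (S := R) (M := P) Ideal.Quotient.mk_surjective]
  exact Module.length_ne_top

include hϖ in
theorem free_H0_Fim {c : ℕ} {M : X.Modules} (hM : Stab ϖ c M) (hcoh : Coh.IsCoh M) :
    Module.Free R (Coh.HH X (Fim ϖ c M) 0) := by
  haveI := finite_HH_Fim (ϖ := ϖ) c hcoh 0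
  haveI : Module.IsTorsionFree R (Coh.HH X (Fim ϖ c M) 0) := by
    refine ⟨fun r hr a b hab => ?_⟩
    obtain ⟨k, w, rfl⟩ := IsDiscreteValuationRing.eq_unit_mul_pow_irreducible hr.ne_zero hϖ
    haveI := mono_σ_Fim hM k
    have h1 : ((w : R) * ϖ ^ k) • a = ((w : R) * ϖ ^ k) • b := hab
    rw [mul_smul, mul_smul] at h1
    exact hm_injective (R := R) (σ ϖ (Fim ϖ c M) k) (w.isUnit.smul_left_cancel.1 h1)
  exact Module.free_of_finite_type_torsion_free'

/-- The torsion of the first cohomology. -/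
abbrev T (ϖ : R) (c i : ℕ) (M : X.Modules) : Submodule R (Coh.HH X (Fim ϖ c M) 1) :=
  LinearMap.ker (LinearMap.lsmul R (Coh.HH X (Fim ϖ c M) 1) (ϖ ^ i))

omit [IsDomain R] [IsDiscreteValuationRing R] [IsProper (X ↘ Spec (CommRingCat.of R))] in
theorem T_mono (c : ℕ) (M : X.Modules) {i k : ℕ} (h : i ≤ k) : T ϖ c i M ≤ T ϖ c k M := fun x hx => by
  simp only [LinearMap.mem_ker, LinearMap.lsmul_apply] at hx ⊢
  rw [show k = (k - i) + i by omega, pow_add, mul_smul, hx, smul_zero]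

omit [IsDomain R] [IsDiscreteValuationRing R] [IsProper (X ↘ Spec (CommRingCat.of R))] in
theorem T_stable (c : ℕ) (M : X.Modules) {e : ℕ} (h : T ϖ c (e + 1) M ≤ T ϖ c e M) (k : ℕ) :
    T ϖ c (e + k) M ≤ T ϖ c e M := by
  induction k with
  | zero => exact le_rfl
  | succ k ih =>
    intro x hx
    refine ih ?_
    simp only [LinearMap.mem_ker, LinearMap.lsmul_apply] at hx ⊢
    have : ϖ ^ k • x ∈ T ϖ c (e + 1) M := by
      simp only [LinearMap.mem_ker, LinearMap.lsmul_apply]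
      rw [← mul_smul, ← pow_add, show e + 1 + k = e + (k + 1) by omega]; exact hx
    have h2 := h this
    simp only [LinearMap.mem_ker, LinearMap.lsmul_apply] at h2
    rwa [← mul_smul, ← pow_add] at h2

theorem length_H0_C {c : ℕ} {M : X.Modules} (hM : Stab ϖ c M) (i : ℕ) :
    Module.length R (Coh.HH X (C ϖ i (Fim ϖ c M)) 0) =
      Module.length R ((Coh.HH X (Fim ϖ c M) 0) ⧸
          LinearMap.range (LinearMap.lsmul R (Coh.HH X (Fim ϖ c M) 0) (ϖ ^ i))) +
        Module.length R (T ϖ c i M) := by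
  let hS := seq_shortExact hM i
  let g : Coh.HH X (Fim ϖ c M) 0 →ₗ[R] Coh.HH X (C ϖ i (Fim ϖ c M)) 0 := hm (q ϖ i _) 0
  let d : Coh.HH X (C ϖ i (Fim ϖ c M)) 0 →ₗ[R] Coh.HH X (Fim ϖ c M) 1 := overLin R (delta hS 0)
  have h2 := exact_hmap_hmap hS 0
  have h3 := exact_hmap_delta hS 0
  have h4 := exact_delta_hmap hS 0
  let d' : Coh.HH X (C ϖ i (Fim ϖ c M)) 0 →ₗ[R] T ϖ c i M :=
    d.codRestrict _ fun x => (h4 (d x)).2 ⟨x, rfl⟩
  have hd' : Function.Surjective d' := fun ⟨y, hy⟩ => by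
    obtain ⟨x, hx⟩ := (h4 y).1 hy
    exact ⟨x, Subtype.ext hx⟩
  have hker : LinearMap.range (LinearMap.lsmul R (Coh.HH X (Fim ϖ c M) 0) (ϖ ^ i)) = LinearMap.ker g := by
    ext x
    exact (h2 x).symm
  let g' := (LinearMap.range (LinearMap.lsmul R (Coh.HH X (Fim ϖ c M) 0) (ϖ ^ i))).liftQ g hker.le
  have hg' : Function.Injective g' := by
    rw [← LinearMap.ker_eq_bot, Submodule.ker_liftQ, ← hker, Submodule.mkQ_map_self]
  refine Module.length_eq_add_of_exact g' d' hg' hd' fun y => ?_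
  constructor
  · intro hy
    obtain ⟨x, hx⟩ := (h3 y).1 (congrArg Subtype.val hy)
    exact ⟨Submodule.Quotient.mk x, hx⟩
  · rintro ⟨x, rfl⟩
    obtain ⟨x, rfl⟩ := Submodule.Quotient.mk_surjective _ x
    exact Subtype.ext ((h3 _).2 ⟨x, rfl⟩)

include hϖ in
theorem length_T_eq {c : ℕ} {M N : X.Modules} (hM : Stab ϖ c M) (hN : Stab ϖ c N) (hMc : Coh.IsCoh M)
    (e : Coh.HH X (Fim ϖ c M) 0 ≃ₗ[R] Coh.HH X (Fim ϖ c N) 0) (i : ℕ)
    (χ : C ϖ i (Fim ϖ c M) ≅ C ϖ i (Fim ϖ c N)) :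
    Module.length R (T ϖ c i M) = Module.length R (T ϖ c i N) := by
  let E : Coh.HH X (C ϖ i (Fim ϖ c M)) 0 ≃ₗ[R] Coh.HH X (C ϖ i (Fim ϖ c N)) 0 :=
    { hm (R := R) χ.hom 0 with
      invFun := hm (R := R) χ.inv 0
      left_inv := fun x => by
        show hm (R := R) χ.inv 0 (hm (R := R) χ.hom 0 x) = x
        rw [← hm_comp, χ.hom_inv_id]; exact hmap_id 0 x
      right_inv := fun x => by
        show hm (R := R) χ.hom 0 (hm (R := R) χ.inv 0 x) = x
        rw [← hm_comp, χ.inv_hom_id]; exact hmap_id 0 x }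
  have h := E.length_eq
  rw [length_H0_C hM, length_H0_C hN] at h
  have hq : Module.length R ((Coh.HH X (Fim ϖ c M) 0) ⧸
        LinearMap.range (LinearMap.lsmul R (Coh.HH X (Fim ϖ c M) 0) (ϖ ^ i))) =
      Module.length R ((Coh.HH X (Fim ϖ c N) 0) ⧸
        LinearMap.range (LinearMap.lsmul R (Coh.HH X (Fim ϖ c N) 0) (ϖ ^ i))) := by
    refine (Submodule.Quotient.equiv _ _ e ?_).length_eq
    ext y
    constructor
    · rintro ⟨_, ⟨x, rfl⟩, rfl⟩
      exact ⟨e x, (e.map_smul _ x).symm⟩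
    · rintro ⟨x, rfl⟩
      exact ⟨_, ⟨e.symm x, rfl⟩, by simp⟩
  rw [← hq] at h
  haveI := finite_HH_Fim (ϖ := ϖ) c hMc 0
  refine WithTop.add_left_cancel ?_ h
  refine length_ne_top_of_killed hϖ i fun x => ?_
  obtain ⟨x, rfl⟩ := Submodule.Quotient.mk_surjective _ x
  exact (Submodule.Quotient.mk_eq_zero _).2 ⟨x, rfl⟩

omit [IsDomain R] [IsDiscreteValuationRing R] [IsProper (X ↘ Spec (CommRingCat.of R))] in
theorem le_of_length_eq {P : Type*} [AddCommGroup P] [Module R P] {N N' : Submodule R P} (hle : N ≤ N')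
    (hfin : Module.length R N ≠ ⊤) (h : Module.length R N' = Module.length R N) : N' ≤ N := by
  let f := Submodule.inclusion hle
  have hex := Module.length_eq_add_of_exact f (LinearMap.range f).mkQ (Submodule.inclusion_injective _)
    (Submodule.mkQ_surjective _) (LinearMap.exact_map_mkQ_range f)
  rw [h] at hex
  have h0 : Module.length R (N' ⧸ LinearMap.range f) = 0 :=
    (WithTop.add_left_cancel hfin ((add_zero _).trans hex)).symm
  intro x hx
  haveI := Module.length_eq_zero_iff.1 h0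
  obtain ⟨y, hy⟩ := (Submodule.Quotient.mk_eq_zero (LinearMap.range f)).1
    (Subsingleton.elim (Submodule.Quotient.mk (p := LinearMap.range f) ⟨x, hx⟩) 0)
  have : (y : P) = x := congrArg Subtype.val hy
  exact this ▸ y.2

include hϖ in
theorem T_eq_of_length {c : ℕ} {M : X.Modules} (hMc : Coh.IsCoh M) (i : ℕ)
    (h : Module.length R (T ϖ c (i + 1) M) = Module.length R (T ϖ c i M)) :
    T ϖ c (i + 1) M ≤ T ϖ c i M := by
  haveI := finite_HH_Fim (ϖ := ϖ) c hMc 1
  haveI : IsNoetherian R (Coh.HH X (Fim ϖ c M) 1) := isNoetherian_of_isNoetherianRing_of_finite R _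
  haveI : Module.Finite R (T ϖ c i M) := Module.Finite.iff_fg.2 (IsNoetherian.noetherian _)
  exact le_of_length_eq (T_mono c M (Nat.le_succ i))
    (length_ne_top_of_killed hϖ i fun x => Subtype.ext x.2) h

/-- Lifting of morphisms out of the structure sheaf. -/
theorem exists_lift {c : ℕ} {M : X.Modules} (hM : Stab ϖ c M) {e k : ℕ} (hT : T ϖ c (e + 1) M ≤ T ϖ c e M)
    (yb : Coh.structureModule X ⟶ C ϖ (k + e) (Fim ϖ c M)) :
    ∃ a : Coh.structureModule X ⟶ Fim ϖ c M,
      a ≫ q ϖ k _ = yb ≫ tr ϖ (Nat.le_add_right k e) _ := by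
  let hS := seq_shortExact hM (k + e)
  let hS' := seq_shortExact hM k
  let τ : seq ϖ c (k + e) M ⟶ seq ϖ c k M :=
    { τ₁ := σ ϖ _ e
      τ₂ := 𝟙 _
      τ₃ := tr ϖ (Nat.le_add_right k e) _
      comm₁₂ := by
        show σ ϖ _ e ≫ σ ϖ _ k = σ ϖ _ (k + e) ≫ 𝟙 _
        rw [σ_add, Category.comp_id, Nat.add_comm]
      comm₂₃ := by
        show 𝟙 _ ≫ q ϖ k _ = q ϖ (k + e) _ ≫ tr ϖ (Nat.le_add_right k e) _
        rw [Category.id_comp, q_tr] }
  let x := toClass _ yb
  have hd : delta hS 0 x ∈ T ϖ c (k + e) M :=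
    (exact_delta_hmap hS 0 (delta hS 0 x)).2 ⟨x, rfl⟩
  have hd' : ϖ ^ e • delta hS 0 x = 0 := by
    have := T_stable (ϖ := ϖ) c M hT k (show delta hS 0 x ∈ T ϖ c (e + k) M by rw [Nat.add_comm e k]; exact hd)
    exact this
  have h0 : delta hS' 0 (hmap τ.τ₃ 0 x) = 0 :=
    (Groth.L16.Rees.delta_naturality hS hS' τ x).trans hd'
  obtain ⟨b, hb⟩ := (exact_hmap_delta hS' 0 _).1 h0
  refine ⟨ofClass _ b, toClass_injective _ ?_⟩
  rw [toClass_comp (R := R), toClass_comp (R := R), toClass_ofClass]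
  exact hb

/-- Functoriality of the image. -/
def Fmap (c : ℕ) {M N : X.Modules} (φ : M ⟶ N) : Fim ϖ c M ⟶ Fim ϖ c N :=
  Abelian.epiDesc (p ϖ c M) (φ ≫ p ϖ c N) (by
    rw [← cancel_mono (j ϖ c N), Category.assoc, Category.assoc, p_j, ← σ_nat, ← Category.assoc, ← p_j,
      ← Category.assoc, kernel.condition, zero_comp, zero_comp, zero_comp])

theorem p_Fmap (c : ℕ) {M N : X.Modules} (φ : M ⟶ N) : p ϖ c M ≫ Fmap (ϖ := ϖ) c φ = φ ≫ p ϖ c N :=
  Abelian.comp_epiDesc _ _ _

/-- The exponent for free modules is that of the structure sheaf. -/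
theorem exists_exponent (c : ℕ) :
    ∃ e : ℕ, ∀ r : ℕ, T ϖ c (e + 1) (FlatMod.freeMod X r) ≤ T ϖ c e (FlatMod.freeMod X r) := by
  haveI : IsLocallyNoetherian X := LocallyOfFiniteType.isLocallyNoetherian (X ↘ Spec (CommRingCat.of R))
  haveI := finite_HH_Fim (ϖ := ϖ) c (Groth.L16.CohClosedPush.isCoh_structure (X := X)) 1
  obtain ⟨e, he⟩ := monotone_stabilizes_iff_noetherian.2
    (inferInstance : IsNoetherian R (Coh.HH X (Fim ϖ c (Coh.structureModule X)) 1))
    ⟨fun i => T ϖ c i (Coh.structureModule X), fun i k h => T_mono c _ h⟩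
  refine ⟨e, fun r x hx => ?_⟩
  let ι : Fin r → (Coh.structureModule X ⟶ FlatMod.freeMod X r) := fun a => Sigma.ι (fun _ : Fin r => Coh.structureModule X) a
  let π : Fin r → (FlatMod.freeMod X r ⟶ Coh.structureModule X) := fun a =>
    Sigma.desc fun b => if b = a then 𝟙 _ else 0
  have hid : ∑ a, π a ≫ ι a = 𝟙 (FlatMod.freeMod X r) := by
    refine Sigma.hom_ext _ _ fun k => ?_
    rw [Preadditive.comp_sum, Category.comp_id, Finset.sum_eq_single k]
    · simp [π, ι]
    · intro b _ hb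
      simp [π, ι, Ne.symm hb]
    · exact fun hk => (hk (Finset.mem_univ k)).elim
  have hF : ∑ a, Fmap (ϖ := ϖ) c (π a) ≫ Fmap c (ι a) = 𝟙 _ := by
    rw [← cancel_epi (p ϖ c (FlatMod.freeMod X r)), Preadditive.comp_sum, Category.comp_id]
    have : ∀ a, p ϖ c (FlatMod.freeMod X r) ≫ Fmap c (π a) ≫ Fmap c (ι a) = (π a ≫ ι a) ≫ p ϖ c _ := fun a => by
      rw [← Category.assoc, p_Fmap, Category.assoc, p_Fmap, Category.assoc]
    rw [Finset.sum_congr rfl fun a _ => this a, ← Preadditive.sum_comp, hid, Category.id_comp]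
  have hx' : ∀ a, hm (R := R) (Fmap (ϖ := ϖ) c (π a)) 1 x ∈ T ϖ c e (Coh.structureModule X) := fun a => by
    have h1 : hm (R := R) (Fmap (ϖ := ϖ) c (π a)) 1 x ∈ T ϖ c (e + 1) (Coh.structureModule X) := by
      simp only [LinearMap.mem_ker, LinearMap.lsmul_apply] at hx ⊢
      rw [← map_smul, hx, map_zero]
    have h2 : T ϖ c e (Coh.structureModule X) = T ϖ c (e + 1) (Coh.structureModule X) := he (e + 1) (Nat.le_succ e)
    rw [h2]
    exact h1
  simp only [LinearMap.mem_ker, LinearMap.lsmul_apply]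
  have hsum : x = ∑ a, hm (R := R) (Fmap (ϖ := ϖ) c (ι a)) 1 (hm (R := R) (Fmap (ϖ := ϖ) c (π a)) 1 x) := by
    conv_lhs => rw [← hmap_id 1 x, ← hF]
    simp only [← hm_comp]
    show Sheaf.H.map (Groth.L16.CohLinear.tm _) 1 x = _
    rw [Groth.L16.CohLinear.tm, Functor.map_sum]
    exact Groth.L16.CohLinear.hMap_sum Finset.univ _ 1 x
  rw [hsum, Finset.smul_sum]
  refine Finset.sum_eq_zero fun a _ => ?_
  rw [← map_smul, show ϖ ^ e • hm (R := R) (Fmap (ϖ := ϖ) c (π a)) 1 x = 0 from hx' a, map_zero]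

end Groth.L20.FreeTrunc
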