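import Groth.Agent.L20.FreeTrunc.Stab
import Groth.Agent.L20.FreeTrunc.Coh
import Groth.Agent.L20.DescLocus.Main
import Groth.Agent.L16.Exist.AlgComplete
import Groth.Agent.L16.Rees.StalkFF
import Groth.Agent.L16.NegPow.Gen
import Groth.Agent.L17.ClosedPush

/-!
# Freeness from the generic fibre and a truncation
-/

set_option autoImplicit false
set_option linter.style.haveILetI false
set_option linter.unusedSectionVars false
set_option backward.isDefEq.respectTransparency false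
set_option backward.isDefEq.respectTransparency.types false

universe u

open CategoryTheory CategoryTheory.Limits AlgebraicGeometry
open scoped TensorProduct

noncomputable section

namespace Groth.L20.FreeTrunc

theorem nonempty_free_of_eq {R : Type u} [CommRing R] {X : Scheme.{u}} (f : X ⟶ Spec (CommRingCat.of R))
    {J J' : Ideal R} (hJ : J = J') {E : X.Modules} {r : ℕ}
    (h : Nonempty ((Scheme.Modules.pullback (pullback.fst f (Spec.map (CommRingCat.ofHom (Ideal.Quotient.mk J))))).obj E ≅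
      FlatMod.freeMod _ r)) :
    Nonempty ((Scheme.Modules.pullback (pullback.fst f (Spec.map (CommRingCat.ofHom (Ideal.Quotient.mk J'))))).obj E ≅
      FlatMod.freeMod _ r) := by
  subst hJ
  exact h

variable {R : Type u} [CommRing R] [IsDomain R] [IsDiscreteValuationRing R] {ϖ : R} (hϖ : Irreducible ϖ)
  {X : Scheme.{u}} [X.Over (Spec (CommRingCat.of R))]

theorem nonempty_C_iso_modPow (i : ℕ) (M : X.Modules) :
    Nonempty (C ϖ i M ≅ Formal.modPow (Ideal.span {ϖ}) i M) := by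
  have hmem : ϖ ^ i ∈ Ideal.span {ϖ} ^ i := Ideal.pow_mem_pow (Ideal.mem_span_singleton_self ϖ) i
  obtain ⟨t, ht⟩ := Groth.L16.Existence.modPow_desc (Ideal.span {ϖ}) (n := i) (q ϖ i M) fun b hb => by
    rw [Ideal.span_singleton_pow, Ideal.mem_span_singleton'] at hb
    obtain ⟨a, rfl⟩ := hb
    rw [mul_comm, Groth.L16.Rees.smulMod_mul, Category.assoc, σ_q, comp_zero]
  let s : C ϖ i M ⟶ Formal.modPow (Ideal.span {ϖ}) i M :=
    cokernel.desc _ (Formal.modPowπ _ i M) (Groth.L16.Rees.smulMod_modPowπ _ M hmem)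
  have hs : q ϖ i M ≫ s = Formal.modPowπ _ i M := cokernel.π_desc _ _ _
  haveI := Groth.L16.Existence.epi_modPowπ (Ideal.span {ϖ}) i M
  refine ⟨⟨s, t, ?_, ?_⟩⟩
  · rw [← cancel_epi (q ϖ i M), reassoc_of% hs, ht, Category.comp_id]
  · rw [← cancel_epi (Formal.modPowπ (Ideal.span {ϖ}) i M), reassoc_of% ht, hs, Category.comp_id]

variable [IsProper (X ↘ Spec (CommRingCat.of R))]

/-- The thickening of the closed fibre. -/
abbrev thick (ϖ : R) (k : ℕ) (X : Scheme.{u}) [X.Over (Spec (CommRingCat.of R))] : Scheme.{u} :=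
  pullback (X ↘ Spec (CommRingCat.of R)) (CohB1.specQuot (Ideal.span {ϖ}) k)

/-- Its immersion. -/
abbrev thickι (ϖ : R) (k : ℕ) (X : Scheme.{u}) [X.Over (Spec (CommRingCat.of R))] : thick ϖ k X ⟶ X :=
  pullback.fst _ _

instance (k : ℕ) : IsClosedImmersion (thickι ϖ k X) := by
  haveI : IsClosedImmersion (CohB1.specQuot (Ideal.span {ϖ}) k) :=
    IsClosedImmersion.spec_of_surjective _ Ideal.Quotient.mk_surjective
  infer_instance

theorem nonempty_C_iso_push (k : ℕ) {M : X.Modules} (hM : Coh.IsCoh M) :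
    ∃ e : C ϖ (k + 1) M ≅ (Coh.push (thickι ϖ k X)).obj ((Scheme.Modules.pullback (thickι ϖ k X)).obj M),
      IsIso ((Scheme.Modules.pullback (thickι ϖ k X)).map (q ϖ (k + 1) M)) := by
  haveI : IsLocallyNoetherian X := LocallyOfFiniteType.isLocallyNoetherian (X ↘ Spec (CommRingCat.of R))
  let i := thickι ϖ k X
  letI : (thick ϖ k X).Over (Spec (CommRingCat.of R)) :=
    ⟨pullback.snd _ _ ≫ CohB1.specQuot (Ideal.span {ϖ}) k⟩
  obtain ⟨e, he⟩ := Groth.L16.Exist.Adic.exists_modPow_iso_unit (f := i)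
    (π := pullback.snd (X ↘ Spec (CommRingCat.of R)) (CohB1.specQuot (Ideal.span {ϖ}) k))
    (IsPullback.of_hasPullback _ _) rfl hM
  obtain ⟨e₁⟩ := nonempty_C_iso_modPow (ϖ := ϖ) (k + 1) M
  refine ⟨e₁ ≪≫ e, ?_⟩
  let adj := Scheme.Modules.pullbackPushforwardAdjunction i
  haveI := Groth.L17.ClosedPush.isIso_counit i
  haveI : IsIso ((Scheme.Modules.pullback i).map (adj.unit.app M)) :=
    IsIso.of_isIso_fac_right (adj.left_triangle_components M)
  obtain ⟨t, ht⟩ : ∃ t : (Scheme.Modules.pullback i).obj (C ϖ (k + 1) M) ⟶ (Scheme.Modules.pullback i).obj M,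
      (Scheme.Modules.pullback i).map (q ϖ (k + 1) M) ≫ t = 𝟙 _ := by
    have hq : ∃ t₀, q ϖ (k + 1) M ≫ t₀ = adj.unit.app M := by
      refine ⟨cokernel.desc _ (adj.unit.app M) ?_, cokernel.π_desc _ _ _⟩
      rw [← he, ← Category.assoc,
        Groth.L16.Rees.smulMod_modPowπ _ M (Ideal.pow_mem_pow (Ideal.mem_span_singleton_self ϖ) _), zero_comp]
    obtain ⟨t₀, ht₀⟩ := hq
    exact ⟨(Scheme.Modules.pullback i).map t₀ ≫ adj.counit.app _, by
      rw [← Category.assoc, ← Functor.map_comp, ht₀]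
      exact adj.left_triangle_components M⟩
  haveI : Epi ((Scheme.Modules.pullback i).map (q ϖ (k + 1) M)) := by
    haveI : (Scheme.Modules.pullback i).IsLeftAdjoint := adj.isLeftAdjoint
    exact Functor.map_epi _ _
  refine ⟨t, ht, ?_⟩
  rw [← cancel_epi ((Scheme.Modules.pullback i).map (q ϖ (k + 1) M)), reassoc_of% ht, Category.comp_id]

include hϖ in
theorem exists_equiv_H0 {c : ℕ} {M N : X.Modules} (hM : Stab ϖ c M) (hN : Stab ϖ c N) (hMc : Coh.IsCoh M)
    (hNc : Coh.IsCoh N)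
    (e : (Scheme.Modules.pullback (pullback.fst (X ↘ Spec (CommRingCat.of R))
        (Spec.map (CommRingCat.ofHom (algebraMap R (FractionRing R)))))).obj M ≅
      (Scheme.Modules.pullback (pullback.fst (X ↘ Spec (CommRingCat.of R))
        (Spec.map (CommRingCat.ofHom (algebraMap R (FractionRing R)))))).obj N) :
    Nonempty (Coh.HH X (Fim ϖ c M) 0 ≃ₗ[R] Coh.HH X (Fim ϖ c N) 0) := by
  let K := FractionRing R
  let f := X ↘ Spec (CommRingCat.of R)
  let g := pullback.fst f (Spec.map (CommRingCat.ofHom (algebraMap R K)))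
  let f' := pullback.snd f (Spec.map (CommRingCat.ofHom (algebraMap R K)))
  haveI : Coh.IsQCoh M := hMc.1
  haveI : Coh.IsQCoh N := hNc.1
  haveI : Module.Flat R K := IsLocalization.flat K (nonZeroDivisors R)
  obtain ⟨eM⟩ := Groth.L16.Rees.exists_flat_bc_equiv f f' g (IsPullback.of_hasPullback _ _) M 0
  obtain ⟨eN⟩ := Groth.L16.Rees.exists_flat_bc_equiv f f' g (IsPullback.of_hasPullback _ _) N 0
  letI : Module K (Coh.HH _ ((Scheme.Modules.pullback g).obj M) 0) := Module.compHom _ (Coh.toGlobal f')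
  letI : Module K (Coh.HH _ ((Scheme.Modules.pullback g).obj N) 0) := Module.compHom _ (Coh.toGlobal f')
  let E : Coh.HH _ ((Scheme.Modules.pullback g).obj M) 0 ≃ₗ[K] Coh.HH _ ((Scheme.Modules.pullback g).obj N) 0 :=
    { (Groth.L17.BC.HHequiv e 0).toAddEquiv with
      map_smul' := fun a x => (Groth.L17.BC.HHequiv e 0).map_smul (Coh.toGlobal f' a) x }
  have hMN : Module.finrank K (K ⊗[R] Coh.HH X M 0) = Module.finrank K (K ⊗[R] Coh.HH X N 0) :=
    ((eM.trans E).trans eN.symm).finrank_eq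
  have key : ∀ L : X.Modules, Module.finrank K (K ⊗[R] Coh.HH X (Fim ϖ c L) 0) =
      Module.finrank K (K ⊗[R] Coh.HH X L 0) := fun L => by
    have hu : IsUnit (algebraMap R K (ϖ ^ c)) :=
      isUnit_iff_ne_zero.2 ((map_ne_zero_iff _ (IsFractionRing.injective R K)).2 (pow_ne_zero c hϖ.ne_zero))
    let P := (hm (R := R) (p ϖ c L) 0).baseChange K
    let J := (hm (R := R) (j ϖ c L) 0).baseChange K
    have h1 : hm (R := R) (j ϖ c L) 0 ∘ₗ hm (R := R) (p ϖ c L) 0 = ϖ ^ c • LinearMap.id := LinearMap.ext fun x => by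
      show hm (R := R) (j ϖ c L) 0 (hm (R := R) (p ϖ c L) 0 x) = ϖ ^ c • x
      rw [← hm_comp, p_j, hm_σ]
    have h2 : hm (R := R) (p ϖ c L) 0 ∘ₗ hm (R := R) (j ϖ c L) 0 = ϖ ^ c • LinearMap.id := LinearMap.ext fun x => by
      show hm (R := R) (p ϖ c L) 0 (hm (R := R) (j ϖ c L) 0 x) = ϖ ^ c • x
      rw [← hm_comp, j_p, hm_σ]
    have h1' : ∀ x, J (P x) = algebraMap R K (ϖ ^ c) • x := fun x => by
      rw [← LinearMap.comp_apply, ← LinearMap.baseChange_comp, h1, LinearMap.baseChange_smul,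
        LinearMap.baseChange_id, LinearMap.smul_apply, LinearMap.id_apply, algebraMap_smul]
    have h2' : ∀ x, P (J x) = algebraMap R K (ϖ ^ c) • x := fun x => by
      rw [← LinearMap.comp_apply, ← LinearMap.baseChange_comp, h2, LinearMap.baseChange_smul,
        LinearMap.baseChange_id, LinearMap.smul_apply, LinearMap.id_apply, algebraMap_smul]
    refine (LinearEquiv.ofBijective P ⟨fun a b hab => ?_, fun y => ?_⟩).finrank_eq.symm
    · have := congrArg J hab
      rw [h1', h1'] at this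
      exact hu.smul_left_cancel.1 this
    · refine ⟨(hu.unit⁻¹ : Kˣ).1 • J y, ?_⟩
      rw [map_smul, h2', smul_smul, IsUnit.val_inv_mul, one_smul]
  have h := (key M).trans (hMN.trans (key N).symm)
  haveI := free_H0_Fim hϖ hM hMc
  haveI := free_H0_Fim hϖ hN hNc
  haveI := finite_HH_Fim (ϖ := ϖ) c hMc 0
  haveI := finite_HH_Fim (ϖ := ϖ) c hNc 0
  rw [Module.finrank_baseChange, Module.finrank_baseChange] at h
  exact ⟨LinearEquiv.ofFinrankEq _ _ h⟩

include hϖ in
/-- A locally free module with the generic fibre and a large truncation of a free module is free. -/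
theorem main [Surjective (X ↘ Spec (CommRingCat.of R))] :
    ∃ n : ℕ, ∀ E : X.Modules, FlatMod.IsFinLocFree E →
      (∃ r : ℕ, Nonempty ((Scheme.Modules.pullback (pullback.fst (X ↘ Spec (CommRingCat.of R))
          (Spec.map (CommRingCat.ofHom (algebraMap R (FractionRing R)))))).obj E ≅ FlatMod.freeMod _ r)) →
      (∃ r : ℕ, Nonempty ((Scheme.Modules.pullback (pullback.fst (X ↘ Spec (CommRingCat.of R))
          (Spec.map (CommRingCat.ofHom (Ideal.Quotient.mk (Ideal.span {ϖ ^ n})))))).obj E ≅ FlatMod.freeMod _ r)) →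
      ∃ r : ℕ, Nonempty (E ≅ FlatMod.freeMod X r) := by
  let f := X ↘ Spec (CommRingCat.of R)
  haveI : IsLocallyNoetherian X := LocallyOfFiniteType.isLocallyNoetherian f
  haveI : CompactSpace X := QuasiCompact.compactSpace_of_compactSpace f
  obtain ⟨c, hc⟩ := exists_stab (X := X) ϖ
  obtain ⟨e, he⟩ := exists_exponent (X := X) (ϖ := ϖ) c
  refine ⟨1 + c + e + c, fun E hE ⟨r', ⟨aK⟩⟩ ⟨r, hA⟩ => ?_⟩
  have hN : 1 + c + e + c = (c + e + c) + 1 := by omega
  -- the two ranks agree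
  let iN := thickι ϖ (c + e + c) X
  obtain ⟨aN⟩ : Nonempty ((Scheme.Modules.pullback iN).obj E ≅ FlatMod.freeMod _ r) :=
    nonempty_free_of_eq f (by rw [Ideal.span_singleton_pow, hN]) hA
  let c₀ := IsLocalRing.closedPoint R
  have hr : r' = r := by
    let b := Spec.map (CommRingCat.ofHom (algebraMap R (FractionRing R)))
    haveI : Surjective (pullback.snd f b) := MorphismProperty.pullback_snd (P := @Surjective) f b inferInstance
    obtain ⟨η, -⟩ := (pullback.snd f b).surjective default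
    let x := pullback.fst f b η
    obtain ⟨x', hxx', hfx'⟩ : ∃ x', x ⤳ x' ∧ f x' = c₀ := by
      have hcl : IsClosed (f '' closure {x}) := f.isClosedMap _ isClosed_closure
      obtain ⟨x', hx', he'⟩ : c₀ ∈ f '' closure {x} :=
        (IsLocalRing.specializes_closedPoint (R := R) (f x)).mem_closed hcl ⟨x, subset_closure rfl, rfl⟩
      exact ⟨x', specializes_iff_mem_closure.2 hx', he'⟩
    obtain ⟨y, hy⟩ : x' ∈ Set.range iN := by
      have hq : c₀ ∈ Set.range (CohB1.specQuot (Ideal.span {ϖ}) (c + e + c)) := by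
        show _ ∈ Set.range (PrimeSpectrum.comap (Ideal.Quotient.mk (Ideal.span {ϖ} ^ (c + e + c + 1))))
        rw [range_comap_of_surjective _ _ Ideal.Quotient.mk_surjective, Ideal.mk_ker, PrimeSpectrum.mem_zeroLocus]
        refine (Ideal.pow_le_self (Nat.succ_ne_zero _)).trans ?_
        rw [Ideal.span_singleton_le_iff_mem]
        exact (IsLocalRing.mem_maximalIdeal _).2 hϖ.not_isUnit
      obtain ⟨z, hz⟩ := hq
      obtain ⟨y, hy, -⟩ := Scheme.exists_preimage_of_isPullback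
        (IsPullback.of_hasPullback f (CohB1.specQuot (Ideal.span {ϖ}) (c + e + c))) x' z (hfx'.trans hz.symm)
      exact ⟨y, hy⟩
    haveI : Coh.IsQCoh E := (Groth.L16.NegPow.isCoh_of_isFinLocFree hE).1
    obtain ⟨m, hm⟩ := Groth.L20.DescLocus.exists_mem_rkLocus E hE x'
    have h1 := Groth.L20.DescLocus.rk_unique E iN y aN (by rw [hy]; exact hm)
    have h2 := Groth.L20.DescLocus.rk_unique E (pullback.fst f b) η aK
      (hxx'.mem_open (Groth.L20.DescLocus.rkLocus E m).2 hm)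
    omega
  subst hr
  let G := FlatMod.freeMod X r'
  have hG : FlatMod.IsFinLocFree G := fun x =>
    ⟨⊤, r', trivial, ⟨(Scheme.Modules.restrictFunctorIsoPullback _).app _ ≪≫
      Groth.L29.LocFree.pullbackFreeIso _ r'⟩⟩
  have hEc := Groth.L16.NegPow.isCoh_of_isFinLocFree hE
  have hGc := Groth.L16.NegPow.isCoh_of_isFinLocFree hG
  -- truncations
  obtain ⟨φN⟩ : Nonempty (C ϖ (1 + c + e + c) E ≅ C ϖ (1 + c + e + c) G) := by
    rw [hN]
    obtain ⟨eE, -⟩ := nonempty_C_iso_push (ϖ := ϖ) (c + e + c) hEc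
    obtain ⟨eG, -⟩ := nonempty_C_iso_push (ϖ := ϖ) (c + e + c) hGc
    exact ⟨eE ≪≫ (Coh.push iN).mapIso (aN ≪≫ (Groth.L29.LocFree.pullbackFreeIso iN r').symm) ≪≫ eG.symm⟩
  obtain ⟨eH⟩ := exists_equiv_H0 hϖ (hc E hE) (hc G hG) hEc hGc
    (aK ≪≫ (Groth.L29.LocFree.pullbackFreeIso _ r').symm)
  have hlen : ∀ i, i ≤ e + 1 → Module.length R (T ϖ c i E) = Module.length R (T ϖ c i G) := fun i hi => by
    obtain ⟨φi, -⟩ := exists_reduce ϖ (show i + c ≤ 1 + c + e + c by omega) φN
    obtain ⟨χ, -⟩ := exists_chi c i φi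
    exact length_T_eq hϖ (hc E hE) (hc G hG) hEc eH i χ
  have hTE : T ϖ c (e + 1) E ≤ T ϖ c e E := by
    refine T_eq_of_length hϖ hEc e ?_
    rw [hlen e (Nat.le_succ e), hlen (e + 1) le_rfl, le_antisymm (he r') (T_mono c G (Nat.le_succ e))]
  -- lift
  have hsq : 1 + c ≤ 1 + c + e := Nat.le_add_right _ _
  let vN := v ϖ c (1 + c + e) (1 + c + e) (Nat.le_add_right _ c) E
  have hle : 1 + c ≤ 1 + c + e + c := by omega
  have hlift : ∀ t : Coh.structureModule X ⟶ C ϖ (1 + c + e + c) E,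
      ∃ z : Coh.structureModule X ⟶ E, z ≫ q ϖ (1 + c) E = t ≫ tr ϖ hle E := fun t => by
    obtain ⟨a, ha⟩ := exists_lift (hc E hE) (k := 1 + c) hTE (t ≫ vN)
    obtain ⟨z, -, hz⟩ := exists_glue (hc E hE) 1 a (t ≫ tr ϖ hle E) (by
      rw [ha, Category.assoc, Category.assoc]
      congr 1
      rw [← cancel_epi (q ϖ (1 + c + e + c) E), q_v_assoc, q_tr, q_tr_assoc, q_v])
    exact ⟨z, hz⟩
  choose z hz using hlift
  let Z : G ⟶ E := Sigma.desc fun a => z (Sigma.ι (fun _ : Fin r' => Coh.structureModule X) a ≫ q ϖ _ G ≫ φN.inv)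
  obtain ⟨φ1, hφ1⟩ := exists_reduce ϖ (show 1 ≤ 1 + c + e + c by omega) φN.symm
  have hZ : Z ≫ q ϖ 1 E = q ϖ 1 G ≫ φ1.hom := by
    refine Sigma.hom_ext _ _ fun a => ?_
    rw [Sigma.ι_desc_assoc, ← q_tr ϖ (Nat.le_add_right 1 c) E, reassoc_of% hz]
    rw [← q_tr ϖ (show 1 ≤ 1 + c + e + c by omega) G]
    simp only [Category.assoc]
    rw [hφ1, Iso.symm_hom]
    congr 3
    rw [← cancel_epi (q ϖ (1 + c + e + c) E), q_tr_assoc, q_tr, q_tr]
  let i1 := thickι ϖ 0 X
  haveI : IsIso ((Scheme.Modules.pullback i1).map Z) := by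
    obtain ⟨-, h1⟩ := nonempty_C_iso_push (ϖ := ϖ) 0 hEc
    obtain ⟨-, h2⟩ := nonempty_C_iso_push (ϖ := ϖ) 0 hGc
    haveI := h1
    haveI := h2
    have h := congrArg (Scheme.Modules.pullback i1).map hZ
    rw [Functor.map_comp, Functor.map_comp] at h
    exact IsIso.of_isIso_fac_right h
  have hall : ∀ x, x ∈ Groth.L20.DescLocus.isoLocus Z := fun x => by
    have hcl : IsClosed (f '' closure {x}) := f.isClosedMap _ isClosed_closure
    obtain ⟨x', hx', he'⟩ : c₀ ∈ f '' closure {x} :=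
      (IsLocalRing.specializes_closedPoint (R := R) (f x)).mem_closed hcl ⟨x, subset_closure rfl, rfl⟩
    have hq : c₀ ∈ Set.range (CohB1.specQuot (Ideal.span {ϖ}) 0) := by
      show _ ∈ Set.range (PrimeSpectrum.comap (Ideal.Quotient.mk (Ideal.span {ϖ} ^ (0 + 1))))
      rw [range_comap_of_surjective _ _ Ideal.Quotient.mk_surjective, Ideal.mk_ker, PrimeSpectrum.mem_zeroLocus]
      refine (Ideal.pow_le_self (Nat.succ_ne_zero _)).trans ?_
      rw [Ideal.span_singleton_le_iff_mem]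
      exact (IsLocalRing.mem_maximalIdeal _).2 hϖ.not_isUnit
    obtain ⟨w, hw⟩ := hq
    obtain ⟨y, hy, -⟩ := Scheme.exists_preimage_of_isPullback
      (IsPullback.of_hasPullback f (CohB1.specQuot (Ideal.span {ϖ}) 0)) x' w (he'.trans hw.symm)
    have := Groth.L20.DescLocus.mem_isoLocus_of_pullback i1 hG hE Z y
    rw [show i1 y = x' from hy] at this
    exact (specializes_iff_mem_closure.2 hx').mem_open (Groth.L20.DescLocus.isoLocus Z).2 this
  haveI : IsIso ((Scheme.Modules.pullback (𝟙 X)).map Z) :=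
    Groth.L20.DescLocus.isIso_of_range_subset Z (𝟙 X) fun y => hall y
  haveI : IsIso Z := (NatIso.isIso_map_iff (Scheme.Modules.pullbackId X) Z).1 inferInstance
  exact ⟨r', ⟨(asIso Z).symm⟩⟩

end Groth.L20.FreeTrunc
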