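import Groth.Agent.L20.FreeTrunc.Cat
import Groth.Agent.L16.HomSh.ModPowSect
import Groth.Agent.L17.FinLocBases
import Groth.Agent.L18.Frame
import Mathlib.AlgebraicGeometry.Noetherian

/-!
# The torsion of locally free modules is uniformly bounded
-/

set_option autoImplicit false
set_option linter.style.haveILetI false
set_option linter.unusedSectionVars false
set_option backward.isDefEq.respectTransparency false
set_option backward.isDefEq.respectTransparency.types false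

universe u

open CategoryTheory CategoryTheory.Limits AlgebraicGeometry TopologicalSpace Opposite
open Groth.L16.AffineBC (scal)
open Groth.L18.Frame (rs ro)

noncomputable section

namespace Groth.L20.FreeTrunc

variable {A : Type u} [CommRing A] {X : Scheme.{u}} [X.Over (Spec (CommRingCat.of A))] (ϖ : A)

theorem res_scal {U V : X.Opens} (h : V ≤ U) (a : A) : ro h (scal A X U a) = scal A X V a := by
  exact Groth.L18.Frame.ro_ro (le_top : U ≤ ⊤) h _

/-- The torsion of the structure sheaf is bounded. -/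
theorem exists_bound [IsLocallyNoetherian X] [CompactSpace X] :
    ∃ c : ℕ, ∀ (U : X.Opens) (a : Γ(X, U)), scal A X U (ϖ ^ (c + 1)) * a = 0 → scal A X U (ϖ ^ c) * a = 0 := by
  have key : ∀ V : X.affineOpens, ∃ c : ℕ, ∀ k, c ≤ k → ∀ b : Γ(X, V.1),
      scal A X V.1 (ϖ ^ (k + 1)) * b = 0 → scal A X V.1 (ϖ ^ k) * b = 0 := fun V => by
    haveI : IsNoetherianRing Γ(X, V.1) := IsLocallyNoetherian.component_noetherian V
    let ch : ℕ →o Ideal Γ(X, V.1) :=
      ⟨fun k => LinearMap.ker (LinearMap.mulLeft Γ(X, V.1) (scal A X V.1 (ϖ ^ k))),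
        monotone_nat_of_le_succ fun k b hb => by
          simp only [LinearMap.mem_ker, LinearMap.mulLeft_apply] at hb ⊢
          rw [pow_succ', map_mul, mul_assoc, hb, mul_zero]⟩
    obtain ⟨c, hc⟩ := monotone_stabilizes_iff_noetherian.2 inferInstance ch
    refine ⟨c, fun k hk b hb => ?_⟩
    have : b ∈ ch (k + 1) := hb
    rw [← hc (k + 1) (by omega), hc k hk] at this
    exact this
  choose cV hcV using key
  obtain ⟨t, ht⟩ := isCompact_univ.elim_finite_subcover (fun V : X.affineOpens => (V.1 : Set X))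
    (fun V => V.1.2) (fun x _ => by
      obtain ⟨_, ⟨V, hV, rfl⟩, hx, -⟩ :=
        X.isBasis_affineOpens.exists_subset_of_mem_open (Set.mem_univ x) isOpen_univ
      exact Set.mem_iUnion.2 ⟨⟨V, hV⟩, hx⟩)
  refine ⟨t.sup cV, fun U a ha => ?_⟩
  refine X.sheaf.eq_of_locally_eq' (fun V : t => U ⊓ V.1.1) U (fun V => homOfLE inf_le_left) (fun x hx => ?_)
    (scal A X U (ϖ ^ t.sup cV) * a) 0 fun V => ?_
  · obtain ⟨V, hVt, hxV⟩ := Set.mem_iUnion₂.1 (ht (Set.mem_univ x))
    exact Opens.mem_iSup.2 ⟨⟨V, hVt⟩, hx, hxV⟩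
  show ro inf_le_left _ = ro inf_le_left 0
  refine (Groth.L18.Frame.ro_mul _ _ _).trans (Eq.trans ?_ (map_zero _).symm)
  rw [res_scal]
  refine TopCat.Presheaf.section_ext X.sheaf _ _ _ fun x hx => ?_
  letI := X.presheaf.algebra_section_stalk ⟨x, hx.2⟩
  haveI := V.1.2.isLocalization_stalk ⟨x, hx.2⟩
  let g := X.presheaf.germ (U ⊓ V.1.1) x hx
  show g (scal A X (U ⊓ V.1.1) (ϖ ^ t.sup cV) * ro inf_le_left a) = g 0
  have hg : ∀ e : A, g (scal A X (U ⊓ V.1.1) e) = algebraMap Γ(X, V.1.1) (X.presheaf.stalk x) (scal A X V.1.1 e) :=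
    fun e => by
      rw [← res_scal (inf_le_right : U ⊓ V.1.1 ≤ V.1.1)]
      exact TopCat.Presheaf.germ_res_apply _ _ _ _ _
  obtain ⟨⟨b, s⟩, hbs⟩ :=
    IsLocalization.surj (V.1.2.primeIdealOf ⟨x, hx.2⟩).asIdeal.primeCompl (g (ro inf_le_left a))
  have h1 : algebraMap Γ(X, V.1.1) (X.presheaf.stalk x) (scal A X V.1.1 (ϖ ^ (t.sup cV + 1)) * b) = 0 := by
    rw [map_mul, ← hbs, ← hg, ← mul_assoc, ← map_mul g.hom, ← res_scal (inf_le_left : U ⊓ V.1.1 ≤ U), ← map_mul,
      ha, map_zero, map_zero, zero_mul]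
  obtain ⟨u, hu⟩ := (IsLocalization.map_eq_zero_iff (V.1.2.primeIdealOf ⟨x, hx.2⟩).asIdeal.primeCompl _ _).1 h1
  have h2 := hcV V.1 (t.sup cV) (Finset.le_sup V.2) (u.1 * b) (by rw [← hu]; ring)
  have h3 := congrArg (algebraMap Γ(X, V.1.1) (X.presheaf.stalk x)) h2
  rw [map_zero, map_mul, map_mul, ← hg, ← hbs, mul_left_comm] at h3
  rw [map_mul, map_zero]
  have hu' : IsUnit (algebraMap Γ(X, V.1.1) (X.presheaf.stalk x) u.1) := IsLocalization.map_units _ u
  have hs' : IsUnit (algebraMap Γ(X, V.1.1) (X.presheaf.stalk x) s.1) := IsLocalization.map_units _ s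
  rw [hu'.mul_right_eq_zero, ← mul_assoc, hs'.mul_left_eq_zero] at h3
  exact h3

/-- The torsion of every finite locally free module is bounded by the same power. -/
theorem exists_stab [IsLocallyNoetherian X] [CompactSpace X] :
    ∃ c : ℕ, ∀ M : X.Modules, FlatMod.IsFinLocFree M → Stab ϖ c M := by
  obtain ⟨c, hc⟩ := exists_bound (X := X) ϖ
  refine ⟨c, fun M hM T g hg => ?_⟩
  refine Scheme.Modules.hom_ext _ _ fun U => ?_
  ext t
  let x : Γ(M, U) := g.app U t
  have hx : scal A X U (ϖ ^ (c + 1)) • x = 0 := by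
    rw [← Groth.L16.HomSh.smulMod_app]
    exact congr($(hg).app U t)
  show (Formal.smulMod A M (ϖ ^ c)).app U x = 0
  rw [Groth.L16.HomSh.smulMod_app]
  choose W n hW e using hM
  refine TopCat.Sheaf.eq_of_locally_eq' (⟨M.presheaf, M.isSheaf⟩ : TopCat.Sheaf Ab.{u} X.toTopCat)
    (fun z : X => U ⊓ (W z).ι ''ᵁ ⊤) U (fun z => homOfLE inf_le_left)
    (fun z hz => Opens.mem_iSup.2 ⟨z, hz, by rw [(W z).ι_image_top]; exact hW z⟩)
    (scal A X U (ϖ ^ c) • x) 0 fun z => ?_
  show rs M inf_le_left _ = rs M inf_le_left 0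
  refine (Groth.L18.Frame.rs_smul M _ _ _).trans (Eq.trans ?_ (map_zero _).symm)
  rw [res_scal]
  obtain ⟨s, hs⟩ := Groth.L17.FinLocBases.exists_isBasis M (e z).some
  have hb := hs (U ⊓ (W z).ι ''ᵁ ⊤) (homOfLE inf_le_right)
  obtain ⟨r, hr⟩ := hb.2 (rs M inf_le_left x)
  simp only at hr
  let V := U ⊓ (W z).ι ''ᵁ ⊤
  let sV : Fin (n z) → Γ(M, V) := fun i =>
    Groth.L17.LocBases.res _ (homOfLE (inf_le_right : V ≤ (W z).ι ''ᵁ ⊤)) (s i)
  let r' : Fin (n z) → Γ(X, V) := r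
  have hr' : ∑ i, r' i • sV i = rs M (inf_le_left : V ≤ U) x := hr
  have h0 : (fun i => scal A X V (ϖ ^ (c + 1)) * r' i) = fun _ => (0 : Γ(X, V)) := by
    apply hb.1
    show ∑ i, (scal A X V (ϖ ^ (c + 1)) * r' i) • sV i = ∑ i, (0 : Γ(X, V)) • sV i
    simp only [mul_smul, ← Finset.smul_sum, zero_smul, Finset.sum_const_zero]
    rw [hr', ← res_scal (inf_le_left : V ≤ U), ← Groth.L18.Frame.rs_smul, hx]
    exact map_zero _
  rw [← hr']
  show scal A X V (ϖ ^ c) • ∑ i, r' i • sV i = 0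
  rw [Finset.smul_sum]
  refine Finset.sum_eq_zero fun i _ => ?_
  rw [← mul_smul, hc V (r' i) (congrFun h0 i), zero_smul]

end Groth.L20.FreeTrunc
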